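import Groth.Agent.Sga7.H558.QuadAlg
import Groth.Agent.CurvesC.BlowUpReg
import Groth.Agent.Flat2E.GenericFibre
import Groth.Agent.Dix.PointIdeal
import Groth.Agent.Divis.BlowUpFormal
import Groth.Agent.S1622
import Mathlib.RingTheory.KrullDimension.Polynomial

/-!
# The blow-up of a closed point is a quadratic transform on stalks
-/

set_option autoImplicit false
universe u

open CategoryTheory CategoryTheory.Limits AlgebraicGeometry IsLocalRing

namespace Groth.Agent.Sga7.H558.QuadBlow

open Groth.Agent.Sga7.H150.Quad Groth.Agent.CurvesC.BlowUpCharts Groth.Agent.CurvesC.BlowUpReg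
open Groth.Agent.Sga7.H558.QuadAlg Groth.Agent.CurvesC

theorem bij {R S : CommRingCat.{u}} (f : R ⟶ S) [IsIso f] : Function.Bijective f.hom :=
  ConcreteCategory.bijective_of_isIso f

theorem isQuad_iff_of_eq {R S T U : CommRingCat.{u}} [IsLocalRing R] [IsLocalRing S] [IsLocalRing T]
    [IsLocalRing U] (h : R ⟶ U) (α : R ⟶ S) (f : S ⟶ T) (g : T ⟶ U) [IsIso α] [IsIso g]
    (e : h = α ≫ f ≫ g) : IsQuad h.hom ↔ IsQuad f.hom := by
  subst e
  constructor
  · intro h
    exact isQuad_of_comp (bij g) (isQuad_of_precomp (bij α) h)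
  · intro h
    exact isQuad_precomp (bij α) (isQuad_comp (bij g) h)

theorem bijective_algebraMap {A : Type u} [CommRing A] [IsLocalRing A] (p : Ideal A) [p.IsPrime]
    (hp : p = maximalIdeal A) : Function.Bijective (algebraMap A (Localization.AtPrime p)) := by
  have h2 : p.primeCompl ≤ IsUnit.submonoid A := by
    intro a ha
    have h3 : a ∉ maximalIdeal A := by
      intro h4
      apply ha
      rw [hp]; exact h4
    exact not_not.1 h3
  exact (IsLocalization.atUnits A p.primeCompl (S := Localization.AtPrime p) h2).bijective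

/-- Stalk maps of `Spec.map`. -/
theorem isQuad_stalkMap_SpecMap {A C : Type u} [CommRing A] [CommRing C] [IsLocalRing A] (φ : A →+* C)
    (w : Spec (CommRingCat.of C)) (hw : w.asIdeal.comap φ = maximalIdeal A)
    (h : IsQuad ((algebraMap C (Localization.AtPrime w.asIdeal)).comp φ)) :
    IsQuad ((Spec.map (CommRingCat.ofHom φ)).stalkMap w).hom := by
  have h1 := Scheme.localRingHom_comp_stalkIso (CommRingCat.ofHom φ) w
  refine (isQuad_iff_of_eq (T := CommRingCat.of (Localization.AtPrime w.asIdeal))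
    (S := CommRingCat.of (Localization.AtPrime (w.asIdeal.comap φ))) _ _ _ _ h1.symm).2 ?_
  refine isQuad_of_precomp (ψ := algebraMap A (Localization.AtPrime (w.asIdeal.comap φ)))
    (bijective_algebraMap _ hw) ?_
  have h3 : (Localization.localRingHom (w.asIdeal.comap φ) w.asIdeal φ rfl).comp
      (algebraMap A (Localization.AtPrime (w.asIdeal.comap φ))) =
      (algebraMap C (Localization.AtPrime w.asIdeal)).comp φ := by
    ext a
    exact Localization.localRingHom_to_map _ _ _ rfl _
  rw [← h3] at h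
  exact h

/-- The blow-up of the closed point of `Spec A`, `A` a local domain. -/
theorem isQuad_spec {A : Type u} [CommRing A] [IsLocalRing A] [IsDomain A] {X : Scheme.{u}}
    {c : X ⟶ Spec (CommRingCat.of A)} (hc : BlowUp.IsBlowUp c (Curv2.idealSheaf A (maximalIdeal A)))
    (y : X) (hy : c y = closedPoint A) : IsQuad (c.stalkMap y).hom := by
  obtain ⟨a, ham, hya⟩ := exists_mem_chart hc.1 (S := (maximalIdeal A : Set A)) (Ideal.span_eq _) y
  replace ham : a ∈ maximalIdeal A := ham
  obtain ⟨j, hj, hjc, hr⟩ := exists_chartMap hc ham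
  have hz' : y ∈ Set.range j := by rw [hr]; exact hya
  obtain ⟨w, rfl⟩ := hz'
  have ha0 : a ≠ 0 := by
    rintro rfl
    have h1 := algebraMap_mem_nonZeroDivisors (maximalIdeal A) (0 : A)
    rw [map_zero] at h1
    have h2 : (1 : BlowUp.affineAlgebra A (maximalIdeal A) 0) = 0 :=
      (mem_nonZeroDivisors_iff_right.1 h1) 1 (by rw [mul_zero])
    apply w.isPrime.ne_top
    rw [Ideal.eq_top_iff_one, h2]
    exact zero_mem _
  have hq : w.asIdeal.comap (algebraMap A (BlowUp.affineAlgebra A (maximalIdeal A) a)) = maximalIdeal A := by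
    have h1 : (affB (maximalIdeal A) a) w = closedPoint A := by
      rw [← hjc, Scheme.Hom.comp_apply]
      exact hy
    exact congrArg PrimeSpectrum.asIdeal h1
  have h1 : IsQuad ((affB (maximalIdeal A) a).stalkMap w).hom :=
    isQuad_stalkMap_SpecMap _ w hq (isQuad_localization ha0 ham w.asIdeal hq _)
  have h2 := Scheme.Hom.stalkMap_congr_hom _ _ hjc.symm w
  rw [Scheme.Hom.stalkMap_comp] at h2
  exact (isQuad_iff_of_eq _ _ _ _ h2).1 h1

theorem le_of_add_one_le {d : WithBot ℕ∞} (h : d + 1 ≤ 2 + 1) : d ≤ 2 := by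
  induction d using WithBot.recBotCoe with
  | bot => exact bot_le
  | coe d =>
    have h1 : ((d + 1 : ℕ∞) : WithBot ℕ∞) ≤ ((2 + 1 : ℕ∞) : WithBot ℕ∞) := h
    have h2 : d + 1 ≤ 2 + 1 := WithBot.coe_le_coe.1 h1
    have h3 : d ≤ 2 := (ENat.add_le_add_iff_right (by decide)).1 h2
    exact WithBot.coe_le_coe.2 h3

theorem ringKrullDim_affineAlgebra_le {A : Type u} [CommRing A] [IsRegularLocalRing A] (hA : ringKrullDim A = 2)
    {x y : A} (hxy : Ideal.span {x, y} = maximalIdeal A) :
    ringKrullDim (BlowUp.affineAlgebra A (maximalIdeal A) x) ≤ 2 := by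
  have hdom := Groth.Agent.CalgA.RegBasic.isDomain A
  have hx0 := BlowUpRegAlg.left_ne_zero hA hxy
  have hp := BlowUpRegAlg.isPrime_span_left hA hxy
  have hker : Polynomial.C x * Polynomial.X - Polynomial.C y ∈ RingHom.ker (BlowUpRegAlg.toAff hxy).toRingHom := by
    have h1 := BlowUpRegAlg.ker_toAff hx0 hp (BlowUpRegAlg.right_notMem_span_left hA hxy) hxy
    have h2 : Polynomial.C x * Polynomial.X - Polynomial.C y ∈ RingHom.ker (BlowUpRegAlg.toAff hxy) := by
      rw [h1]; exact Ideal.mem_span_singleton_self _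
    exact h2
  have hne : Polynomial.C x * Polynomial.X - Polynomial.C y ≠ 0 := by
    intro h0
    have h1 := congrArg (fun P => Polynomial.coeff P 1) h0
    simp only [Polynomial.coeff_sub, Polynomial.coeff_C_mul, Polynomial.coeff_X_one, mul_one,
      Polynomial.coeff_C_succ, sub_zero, Polynomial.coeff_zero] at h1
    exact hx0 h1
  have h2 : ringKrullDim (Polynomial A ⧸ Ideal.span {Polynomial.C x * Polynomial.X - Polynomial.C y}) + 1 ≤
      ringKrullDim (Polynomial A) :=
    ringKrullDim_quotient_succ_le_of_nonZeroDivisor (mem_nonZeroDivisors_of_ne_zero hne)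
  let ψ : Polynomial A ⧸ Ideal.span {Polynomial.C x * Polynomial.X - Polynomial.C y} →+*
      BlowUp.affineAlgebra A (maximalIdeal A) x :=
    Ideal.Quotient.lift _ (BlowUpRegAlg.toAff hxy).toRingHom (fun a ha => by
      have h3 : Ideal.span {Polynomial.C x * Polynomial.X - Polynomial.C y} ≤
          RingHom.ker (BlowUpRegAlg.toAff hxy).toRingHom := by
        rw [Ideal.span_singleton_le_iff_mem]; exact hker
      exact h3 ha)
  have hψ : Function.Surjective ψ := Ideal.Quotient.lift_surjective_of_surjective _ _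
    (BlowUpRegAlg.toAff_surjective hxy)
  have h4 := ringKrullDim_le_of_surjective ψ hψ
  rw [Polynomial.ringKrullDim_of_isNoetherianRing, hA] at h2
  have h5 : ringKrullDim (BlowUp.affineAlgebra A (maximalIdeal A) x) + 1 ≤ 2 + 1 :=
    (by gcongr : ringKrullDim (BlowUp.affineAlgebra A (maximalIdeal A) x) + 1 ≤
      ringKrullDim (Polynomial A ⧸ Ideal.span {Polynomial.C x * Polynomial.X - Polynomial.C y}) + 1).trans h2
  exact le_of_add_one_le h5

/-- Local rings of the blow-up of a two-dimensional regular local ring have dimension at most two. -/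
theorem ringKrullDim_stalk_spec_le {A : Type u} [CommRing A] [IsRegularLocalRing A] (hA : ringKrullDim A = 2)
    {X : Scheme.{u}} {c : X ⟶ Spec (CommRingCat.of A)}
    (hc : BlowUp.IsBlowUp c (Curv2.idealSheaf A (maximalIdeal A))) (z : X) :
    ringKrullDim (X.presheaf.stalk z) ≤ 2 := by
  obtain ⟨x, y, hxy⟩ := exists_generators A hA
  have key : ∀ a b : A, Ideal.span {a, b} = maximalIdeal A → z ∈ chart c (maximalIdeal A) a →
      ringKrullDim (X.presheaf.stalk z) ≤ 2 := by
    intro a b hab hz
    obtain ⟨q, hq, ⟨e⟩⟩ := exists_stalkEquiv hc (a := a) (by rw [← hab]; exact Ideal.subset_span (by simp)) z hz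
    rw [← ringKrullDim_eq_of_ringEquiv e]
    rw [IsLocalization.AtPrime.ringKrullDim_eq_height q (Localization.AtPrime q)]
    exact (Ideal.height_le_ringKrullDim_of_ne_top hq.ne_top).trans (ringKrullDim_affineAlgebra_le hA hab)
  obtain ⟨a, ha, hz⟩ := exists_mem_chart hc.1 (S := {x, y}) hxy z
  rcases ha with rfl | ha
  · exact key _ _ hxy hz
  · rw [Set.mem_singleton_iff] at ha
    subst ha
    exact key _ x (by rw [Set.pair_comm, hxy]) hz

section pullback

variable {X X1 : Scheme.{u}} {b : X1 ⟶ X} {x : X} {hx : IsClosed ({x} : Set X)}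

/-- A point of the blow-up over `x` comes from the blow-up of the local scheme. -/
theorem exists_local (hb : BlowUp.IsBlowUp b (Groth.Agent.Dix.PointIdeal.pt x hx)) (x1 : X1) (h : b x1 = x) :
    ∃ (P : Scheme.{u}) (g : P ⟶ X1) (c : P ⟶ Spec (X.presheaf.stalk x)) (y : P),
      g y = x1 ∧ c y = closedPoint (X.presheaf.stalk x) ∧ Flat g ∧ Mono g ∧
      g ≫ b = c ≫ X.fromSpecStalk x ∧
      BlowUp.IsBlowUp c (Curv2.idealSheaf (X.presheaf.stalk x) (maximalIdeal (X.presheaf.stalk x))) := by
  set f := X.fromSpecStalk x with hf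
  have hfl : Flat f := Groth.Agent.Flat2E.GenericFibre.flat_fromSpecStalk X x
  have hmono : Mono f := inferInstance
  have H : IsPullback (pullback.fst b f) (pullback.snd b f) b f := IsPullback.of_hasPullback b f
  have hb2 := Groth.Agent.Divis.BlowUpFormal.isBlowUp_of_isPullback hb H
  rw [Groth.Agent.Dix.PointIdeal.comap_fromSpecStalk_pt] at hb2
  obtain ⟨y, hy1, hy2⟩ := Scheme.Pullback.exists_preimage_pullback (f := b) (g := f) x1
    (closedPoint (X.presheaf.stalk x)) (by rw [h, hf, Scheme.fromSpecStalk_closedPoint])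
  exact ⟨_, _, _, y, hy1, hy2, inferInstance, inferInstance, pullback.condition, hb2⟩

/-- **(a0)** The blow-up of a closed point `x` whose local ring is a domain is a quadratic transform on the
local rings at the points over `x`. -/
theorem isQuad_stalkMap (hb : BlowUp.IsBlowUp b (Groth.Agent.Dix.PointIdeal.pt x hx))
    [IsDomain (X.presheaf.stalk x)] (x1 : X1) (h : b x1 = x) : IsQuad (b.stalkMap x1).hom := by
  obtain ⟨P, g, c, y, rfl, hy2, hfl, hmono, hw, hc⟩ := exists_local hb x1 h
  have hl : IsLocalRing (X.presheaf.stalk x) := inferInstance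
  have h1 : IsQuad (c.stalkMap y).hom := @isQuad_spec (X.presheaf.stalk x) _ hl _ _ c hc y hy2
  have i1 : IsIso (g.stalkMap y) := Groth.Agent.Flat2E.GenericFibre.isIso_stalkMap_of_flat_mono _ _
  have hfl' : Flat (X.fromSpecStalk x) := Groth.Agent.Flat2E.GenericFibre.flat_fromSpecStalk X x
  have i2 : IsIso ((X.fromSpecStalk x).stalkMap (c y)) :=
    Groth.Agent.Flat2E.GenericFibre.isIso_stalkMap_of_flat_mono _ _
  have e1 := Scheme.Hom.stalkMap_congr_hom _ _ hw.symm y
  rw [Scheme.Hom.stalkMap_comp, Scheme.Hom.stalkMap_comp] at e1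
  have e2 : (X.fromSpecStalk x).stalkMap (c y) ≫ c.stalkMap y = _ := e1
  have h2 : IsQuad ((X.fromSpecStalk x).stalkMap (c y) ≫ c.stalkMap y).hom :=
    (isQuad_iff_of_eq _ ((X.fromSpecStalk x).stalkMap (c y)) (c.stalkMap y) (𝟙 _) (by
      rw [Category.comp_id])).2 h1
  exact (isQuad_iff_of_eq _ _ _ _ e1).1 h2

theorem isRegularLocalRing_stalk (hb : BlowUp.IsBlowUp b (Groth.Agent.Dix.PointIdeal.pt x hx))
    [IsRegularLocalRing (X.presheaf.stalk x)] (hdim : ringKrullDim (X.presheaf.stalk x) = 2)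
    (x1 : X1) (h : b x1 = x) : IsRegularLocalRing (X1.presheaf.stalk x1) := by
  obtain ⟨P, g, c, y, rfl, hy2, hfl, hmono, hw, hc⟩ := exists_local hb x1 h
  have i1 : IsIso (g.stalkMap y) := Groth.Agent.Flat2E.GenericFibre.isIso_stalkMap_of_flat_mono _ _
  have h3 := (Groth.Agent.S1622.result (X.presheaf.stalk x) hdim P c hc).2 y
  exact IsRegularLocalRing.of_ringEquiv (asIso (g.stalkMap y)).commRingCatIsoToRingEquiv.symm

theorem ringKrullDim_stalk_le (hb : BlowUp.IsBlowUp b (Groth.Agent.Dix.PointIdeal.pt x hx))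
    [IsRegularLocalRing (X.presheaf.stalk x)] (hdim : ringKrullDim (X.presheaf.stalk x) = 2)
    (x1 : X1) (h : b x1 = x) : ringKrullDim (X1.presheaf.stalk x1) ≤ 2 := by
  obtain ⟨P, g, c, y, rfl, hy2, hfl, hmono, hw, hc⟩ := exists_local hb x1 h
  have i1 : IsIso (g.stalkMap y) := Groth.Agent.Flat2E.GenericFibre.isIso_stalkMap_of_flat_mono _ _
  have h3 := ringKrullDim_stalk_spec_le (A := X.presheaf.stalk x) hdim hc y
  rwa [ringKrullDim_eq_of_ringEquiv (asIso (g.stalkMap y)).commRingCatIsoToRingEquiv]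

end pullback

end Groth.Agent.Sga7.H558.QuadBlow
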