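import Groth.Agent.Sga7.H150.Quad
import Groth.Agent.CurvesC.BlowUpRegAlg

/-!
# Local rings of affine blow-up algebras are quadratic transforms
-/

set_option autoImplicit false
universe u

open IsLocalRing

namespace Groth.Agent.Sga7.H558.QuadAlg

open Groth.Agent.Sga7.H150.Quad Groth.Agent.CurvesC.BlowUpCharts

section equiv

variable {A A' B B' : Type*} [CommRing A] [IsLocalRing A] [CommRing B] [IsLocalRing B]
  [CommRing A'] [IsLocalRing A'] [CommRing B'] [IsLocalRing B']

theorem isQuad_trans {φ : A →+* B} (h : IsQuad φ) (e : B ≃+* B') :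
    IsQuad ((e : B →+* B').comp φ) := by
  obtain ⟨hinj, hloc, x, hx, hm, hz⟩ := h
  refine ⟨e.injective.comp hinj, ⟨fun a ha => ?_⟩, x, hx, ?_, fun z => ?_⟩
  · exact hloc.map_nonunit a ((MulEquiv.isUnit_map e.toMulEquiv).1 ha)
  · rw [← Ideal.map_map, hm, Ideal.map_span, Set.image_singleton]
    rfl
  · obtain ⟨n, a, ha, a1, ha1, s, hs, e1, e2⟩ := hz (e.symm z)
    refine ⟨n, a, ha, a1, ha1, e s, hs.map e, ?_, ?_⟩
    · rw [RingHom.comp_apply, e1, map_mul, map_pow]; rfl
    · rw [RingHom.comp_apply, e2, map_mul, map_mul, map_pow]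
      have : (e : B →+* B') (e.symm z) = z := e.apply_symm_apply z
      rw [this]; rfl

theorem isQuad_pre {φ : A →+* B} (h : IsQuad φ) (e : A' ≃+* A) :
    IsQuad (φ.comp (e : A' →+* A)) := by
  obtain ⟨hinj, hloc, x, hx, hm, hz⟩ := h
  have hmm : (maximalIdeal A').map (e : A' →+* A) = maximalIdeal A := by
    apply le_antisymm
    · rw [Ideal.map_le_iff_le_comap]
      intro a ha
      rw [Ideal.mem_comap, mem_maximalIdeal, mem_nonunits_iff]
      rw [mem_maximalIdeal, mem_nonunits_iff] at ha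
      exact fun h => ha ((MulEquiv.isUnit_map e.toMulEquiv).1 h)
    · intro a ha
      have : a = (e : A' →+* A) (e.symm a) := (e.apply_symm_apply a).symm
      rw [this]
      apply Ideal.mem_map_of_mem
      rw [mem_maximalIdeal, mem_nonunits_iff] at ha ⊢
      exact fun h => ha ((MulEquiv.isUnit_map e.symm.toMulEquiv).1 h)
  have hpow : ∀ n, ∀ a ∈ maximalIdeal A ^ n, e.symm a ∈ maximalIdeal A' ^ n := by
    intro n a ha
    rw [← hmm, ← Ideal.map_pow] at ha
    have h2 := Ideal.mem_map_of_mem (e.symm : A →+* A') ha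
    rw [Ideal.map_map] at h2
    have h3 : (e.symm : A →+* A').comp (e : A' →+* A) = RingHom.id A' := by
      ext t; exact e.symm_apply_apply t
    rw [h3, Ideal.map_id] at h2
    exact h2
  have hes : ∀ a, φ.comp (e : A' →+* A) (e.symm a) = φ a := fun a =>
    congrArg φ (e.apply_symm_apply a)
  refine ⟨hinj.comp e.injective, ⟨fun a ha => ?_⟩, e.symm x, ?_, ?_, fun z => ?_⟩
  · exact (MulEquiv.isUnit_map e.toMulEquiv).1 (hloc.map_nonunit (e a) ha)
  · have := hpow 1 x (by rwa [pow_one])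
    rwa [pow_one] at this
  · rw [← Ideal.map_map, hmm, hm, hes]
  · obtain ⟨n, a, ha, a1, ha1, s, hs, e1, e2⟩ := hz z
    exact ⟨n, e.symm a, hpow n a ha, e.symm a1, hpow n a1 ha1, s, hs, by rw [hes, hes, e1],
      by rw [hes, hes, e2]⟩

theorem isQuad_of_comp {φ : A →+* B} {ψ : B →+* B'} (hψ : Function.Bijective ψ)
    (h : IsQuad (ψ.comp φ)) : IsQuad φ := by
  let e := RingEquiv.ofBijective ψ hψ
  have h1 := isQuad_trans h e.symm
  have h2 : (e.symm : B' →+* B).comp (ψ.comp φ) = φ := by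
    ext a
    exact e.symm_apply_apply (φ a)
  rwa [h2] at h1

theorem isQuad_comp {φ : A →+* B} {ψ : B →+* B'} (hψ : Function.Bijective ψ)
    (h : IsQuad φ) : IsQuad (ψ.comp φ) := isQuad_trans h (RingEquiv.ofBijective ψ hψ)

theorem isQuad_of_precomp {φ : A →+* B} {ψ : A' →+* A} (hψ : Function.Bijective ψ)
    (h : IsQuad (φ.comp ψ)) : IsQuad φ := by
  let e := RingEquiv.ofBijective ψ hψ
  have h1 := isQuad_pre h e.symm
  have h2 : (φ.comp ψ).comp (e.symm : A →+* A') = φ := by
    ext a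
    exact congrArg φ (e.apply_symm_apply a)
  rwa [h2] at h1

theorem isQuad_precomp {φ : A →+* B} {ψ : A' →+* A} (hψ : Function.Bijective ψ)
    (h : IsQuad φ) : IsQuad (φ.comp ψ) := isQuad_pre h (RingEquiv.ofBijective ψ hψ)

end equiv

variable {A : Type u} [CommRing A]

/-- Elements of the affine blow-up algebra are `c / a ^ n` with `c ∈ I ^ n`. -/
theorem exists_pow_mul {I : Ideal A} {a : A} (ha : a ∈ I) (z : BlowUp.affineAlgebra A I a) :
    ∃ N : ℕ, ∀ n, N ≤ n → ∃ c ∈ I ^ n, algebraMap A (BlowUp.affineAlgebra A I a) a ^ n * z =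
      algebraMap A _ c := by
  suffices h : ∃ n : ℕ, ∃ c ∈ I ^ n, algebraMap A (BlowUp.affineAlgebra A I a) a ^ n * z =
      algebraMap A _ c by
    obtain ⟨N, c, hc, e⟩ := h
    refine ⟨N, fun n hn => ⟨a ^ (n - N) * c, ?_, ?_⟩⟩
    · have := Ideal.mul_mem_mul (Ideal.pow_mem_pow ha (n - N)) hc
      rwa [← pow_add, Nat.sub_add_cancel hn] at this
    · rw [map_mul, ← e, map_pow, ← mul_assoc, ← pow_add, Nat.sub_add_cancel hn]
  obtain ⟨z, hz⟩ := z
  unfold BlowUp.affineAlgebra at hz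
  induction hz using Algebra.adjoin_induction with
  | mem z hz =>
    obtain ⟨x, hx, rfl⟩ := hz
    refine ⟨1, x, by rwa [pow_one], ?_⟩
    rw [pow_one]
    exact mul_frac I a x hx
  | algebraMap r => exact ⟨0, r, by simp, by rw [pow_zero, one_mul]; rfl⟩
  | add x y hx hy h1 h2 =>
    obtain ⟨n1, c1, hc1, e1⟩ := h1
    obtain ⟨n2, c2, hc2, e2⟩ := h2
    refine ⟨n1 + n2, a ^ n2 * c1 + c2 * a ^ n1, ?_, ?_⟩
    · apply Ideal.add_mem
      · have := Ideal.mul_mem_mul (Ideal.pow_mem_pow ha n2) hc1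
        rwa [← pow_add, add_comm] at this
      · have := Ideal.mul_mem_mul hc2 (Ideal.pow_mem_pow ha n1)
        rwa [← pow_add, add_comm] at this
    · have h3 : (⟨x + y, Subalgebra.add_mem _ hx hy⟩ : BlowUp.affineAlgebra A I a) =
        ⟨x, hx⟩ + ⟨y, hy⟩ := rfl
      rw [h3, map_add, map_mul, map_mul, ← e1, ← e2, map_pow, map_pow]
      ring
  | mul x y hx hy h1 h2 =>
    obtain ⟨n1, c1, hc1, e1⟩ := h1
    obtain ⟨n2, c2, hc2, e2⟩ := h2
    refine ⟨n1 + n2, c1 * c2, ?_, ?_⟩
    · have := Ideal.mul_mem_mul hc1 hc2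
      rwa [← pow_add] at this
    · have h3 : (⟨x * y, Subalgebra.mul_mem _ hx hy⟩ : BlowUp.affineAlgebra A I a) =
        ⟨x, hx⟩ * ⟨y, hy⟩ := rfl
      rw [h3, map_mul, ← e1, ← e2]
      ring

theorem isQuad_aux [IsLocalRing A] {a : A} (ha : a ∈ maximalIdeal A)
    (C : Type*) [CommRing C] [IsDomain C] [Algebra A C] (hinj : Function.Injective (algebraMap A C))
    (hspan : (maximalIdeal A).map (algebraMap A C) = Ideal.span {algebraMap A C a})
    (hpow : ∀ z : C, ∃ N : ℕ, ∀ n, N ≤ n → ∃ c ∈ maximalIdeal A ^ n, algebraMap A C a ^ n * z = algebraMap A C c)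
    (q : Ideal C) [q.IsPrime] (hq : q.comap (algebraMap A C) = maximalIdeal A)
    (B : Type*) [CommRing B] [IsLocalRing B] [Algebra C B] [IsLocalization.AtPrime B q] :
    IsQuad ((algebraMap C B).comp (algebraMap A C)) := by
  have hinj' : Function.Injective (algebraMap C B) :=
    IsLocalization.injective B (q.primeCompl_le_nonZeroDivisors)
  refine ⟨hinj'.comp hinj, ⟨fun r hr => ?_⟩, a, ha, ?_, fun z => ?_⟩
  · by_contra hu
    have h1 : r ∈ maximalIdeal A := hu
    rw [← hq, Ideal.mem_comap] at h1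
    exact ((IsLocalization.AtPrime.isUnit_to_map_iff B q _).1 hr) h1
  · rw [← Ideal.map_map, hspan, Ideal.map_span, Set.image_singleton]
    rfl
  · obtain ⟨⟨u, s⟩, hus⟩ := IsLocalization.surj q.primeCompl z
    obtain ⟨N1, h1⟩ := hpow u
    obtain ⟨N2, h2⟩ := hpow (s : C)
    obtain ⟨c, hc, e⟩ := h1 (max N1 N2) (le_max_left _ _)
    obtain ⟨c1, hc1, e1⟩ := h2 (max N1 N2) (le_max_right _ _)
    refine ⟨max N1 N2, c, hc, c1, hc1, algebraMap C B s, IsLocalization.map_units B s, ?_, ?_⟩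
    · rw [RingHom.comp_apply, RingHom.comp_apply, ← e1, map_mul, map_pow]
    · rw [RingHom.comp_apply, RingHom.comp_apply, ← e, map_mul, map_pow, mul_comm (algebraMap C B s) z]
      congr 1
      exact hus.symm

/-- Local rings of the affine blow-up algebra over the closed point are quadratic transforms. -/
theorem isQuad_localization [IsDomain A] [IsLocalRing A] {a : A} (ha0 : a ≠ 0) (ha : a ∈ maximalIdeal A)
    (q : Ideal (BlowUp.affineAlgebra A (maximalIdeal A) a)) [q.IsPrime]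
    (hq : q.comap (algebraMap A (BlowUp.affineAlgebra A (maximalIdeal A) a)) = maximalIdeal A)
    (B : Type*) [CommRing B] [IsLocalRing B] [Algebra (BlowUp.affineAlgebra A (maximalIdeal A) a) B]
    [IsLocalization.AtPrime B q] :
    IsQuad ((algebraMap (BlowUp.affineAlgebra A (maximalIdeal A) a) B).comp
      (algebraMap A (BlowUp.affineAlgebra A (maximalIdeal A) a))) := by
  have hdom : IsDomain (BlowUp.affineAlgebra A (maximalIdeal A) a) :=
    Groth.Agent.CurvesC.BlowUpRegAlg.isDomain_affineAlgebra ha0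
  exact isQuad_aux ha _ (Groth.Agent.CurvesC.BlowUpRegAlg.algebraMap_injective ha0)
    (map_eq_span _ _ ha) (fun z => exists_pow_mul ha z) q hq B

end Groth.Agent.Sga7.H558.QuadAlg
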